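import Groth.Agent.H32.WAFin.FG
import Groth.Agent.H32.QCBC.WeakAssChart
import Groth.Agent.H75.WAFin_WFIN
import Groth.Agent.H37.WAFin_NOETH

/-! helper32: on an affine chart of a locally Noetherian space, a coherent module has finitely many
weakly associated points. -/

set_option autoImplicit false
set_option backward.isDefEq.respectTransparency false
universe u
open CategoryTheory Opposite Limits AlgebraicGeometry AlgSp

namespace Groth.Agent.H32.WAFin

open Groth.Agent.H32.QCBC

variable {S : Scheme.{u}} (X : AlgSp.Sp S) (M : AlgSp.ModEt X)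

theorem finite_sectModEt [M.IsQuasicoherent] [M.IsFiniteType] (E : EtOver X)
    (hE : IsAffine E.obj.left.left) :
    Module.Finite ((AlgSp.OEt X).obj.obj (op E)) (M.val.obj (op E)) := by
  obtain ⟨σ, hσ⟩ := SheafOfModules.IsFiniteType.exists_localGeneratorsData M
  exact finite_sect (AlgSp.OEt X) (affSite_etOver X) M σ hσ hE

theorem finite_sectModEt_Γ [M.IsQuasicoherent] [M.IsFiniteType] (E : EtOver X)
    (hE : IsAffine E.obj.left.left) :
    letI := modΓ M E
    Module.Finite Γ(E.obj.left.left, ⊤) (sectModEt M E) := by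
  letI := modΓ M E
  haveI := finite_sectModEt X M E hE
  letI : Algebra Γ(E.obj.left.left, ⊤) ((AlgSp.OEt X).obj.obj (op E)) := (upΓ E).toAlgebra
  haveI : Module.Finite Γ(E.obj.left.left, ⊤) ((AlgSp.OEt X).obj.obj (op E)) :=
    Module.Finite.of_surjective (Algebra.linearMap Γ(E.obj.left.left, ⊤) _)
      (ULift.ringEquiv (R := Γ(E.obj.left.left, ⊤))).symm.surjective
  haveI : IsScalarTower Γ(E.obj.left.left, ⊤) ((AlgSp.OEt X).obj.obj (op E)) (sectModEt M E) :=
    ⟨fun a b m => by
      rw [Algebra.smul_def, mul_smul]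
      rfl⟩
  exact Module.Finite.trans ((AlgSp.OEt X).obj.obj (op E)) (sectModEt M E)

theorem finite_isWeakAssOn [M.IsQuasicoherent] [M.IsFiniteType] (hX : AlgSp.IsLocNoethSp X)
    (E : EtOver X) [hE : IsAffine E.obj.left.left] :
    {u : E.obj.left.left | IsWeakAssOn M E u}.Finite := by
  letI := modΓ M E
  haveI := finite_sectModEt_Γ X M E hE
  haveI := Groth.Agent.H37.WAFin_NOETH.isNoetherianRing_of_isLocNoethSp X hX E
  have hfin := Groth.Agent.H75.WAFin_WFIN.weakAss_finite (R := Γ(E.obj.left.left, ⊤))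
    (M := sectModEt M E)
  have heq : {u : E.obj.left.left | IsWeakAssOn M E u} =
      (primeAtPt E.obj.left.left) ⁻¹' (FlatCA.weakAss Γ(E.obj.left.left, ⊤) (sectModEt M E)) := by
    ext u
    exact isWeakAssOn_iff M E u
  rw [heq]
  exact hfin.preimage (Groth.Agent.H25.WeakAssPush.primeAtPt_injective _).injOn

end Groth.Agent.H32.WAFin
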