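import Groth.Agent.H32.WAFin.EpiSurj
import Groth.Agent.H32.WAFin.Chart

/-! helper32: on the small étale site, an epimorphism between quasi-coherent modules is surjective
on sections over affine objects; finiteness of sections passes to quasi-coherent quotients. -/

set_option autoImplicit false
set_option backward.isDefEq.respectTransparency false
universe u
open CategoryTheory Opposite Limits AlgebraicGeometry AlgSp

namespace Groth.Agent.H32.WAFin

open Groth.Agent.H32.QCBC

variable {S : Scheme.{u}} (X : AlgSp.Sp S)

theorem surjective_of_epi_modEt {M Q : AlgSp.ModEt X} [M.IsQuasicoherent] [Q.IsQuasicoherent]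
    (π : M ⟶ Q) [Epi π] (E : EtOver X) (hE : IsAffine E.obj.left.left) :
    Function.Surjective (π.val.app (op E)).hom :=
  surjective_of_epi (AlgSp.OEt X) (affSite_etOver X) π hE

theorem finite_sectModEt_of_epi {M Q : AlgSp.ModEt X} [M.IsQuasicoherent] [Q.IsQuasicoherent]
    (π : M ⟶ Q) [Epi π] (E : EtOver X) (hE : IsAffine E.obj.left.left)
    (hM : Module.Finite ((AlgSp.OEt X).obj.obj (op E)) (M.val.obj (op E))) :
    Module.Finite ((AlgSp.OEt X).obj.obj (op E)) (Q.val.obj (op E)) := by
  let πE : M.val.obj (op E) →ₗ[(AlgSp.OEt X).obj.obj (op E)] Q.val.obj (op E) :=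
    { toFun := fun m => (π.val.app (op E)).hom m
      map_add' := fun x y => map_add (π.val.app (op E)).hom x y
      map_smul' := fun r m => map_smul (π.val.app (op E)).hom r m }
  exact Module.Finite.of_surjective πE (surjective_of_epi_modEt X π E hE)

end Groth.Agent.H32.WAFin
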