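import Groth.Agent.H32.WAFin.FG
import Groth.Agent.H64.ToSheafEpi

/-! helper32: an epimorphism between quasi-coherent modules is surjective on sections over affine
objects (abstract affine site). -/

set_option autoImplicit false
universe v₁ u₁
open CategoryTheory Opposite Limits

namespace Groth.Agent.H32.WAFin

open Groth.Agent.H32.QCBC

section Main
variable {C : Type u₁} [Category.{v₁} C] {J : GrothendieckTopology C}
  (O : Sheaf J CommRingCat.{max v₁ u₁})
  [J.HasSheafCompose (forget₂ CommRingCat.{max v₁ u₁} RingCat.{max v₁ u₁})]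
  [∀ X, HasWeakSheafify (J.over X) AddCommGrpCat.{max v₁ u₁}]
  [∀ X, (J.over X).WEqualsLocallyBijective AddCommGrpCat.{max v₁ u₁}]
  [HasSheafify J AddCommGrpCat.{max v₁ u₁}] [J.WEqualsLocallyBijective AddCommGrpCat.{max v₁ u₁}]
  [J.HasSheafCompose (forget AddCommGrpCat.{max v₁ u₁})]
  [Balanced (Sheaf J AddCommGrpCat.{max v₁ u₁})]
  {Aff : C → Prop}

set_option maxHeartbeats 800000 in
theorem surjective_of_epi (h : AffSite J O.obj Aff)
    {M Q : SheafOfModules.{max v₁ u₁}
      ((sheafCompose J (forget₂ CommRingCat.{max v₁ u₁} RingCat.{max v₁ u₁})).obj O)}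
    [M.IsQuasicoherent] [Q.IsQuasicoherent] (π : M ⟶ Q) [Epi π] {E : C} (hE : Aff E) :
    Function.Surjective (π.val.app (op E)).hom := by
  intro t
  obtain ⟨T, hT, hloc⟩ := Groth.Agent.H64.ToSheafEpi.locally_surjective_of_epi _ π E t
  obtain ⟨n, Y, f, hY, hf, hcov⟩ := h.qc E hE T hT
  letI : ∀ a, Algebra (O.obj.obj (op E)) (O.obj.obj (op (Y a))) :=
    fun a => (O.obj.map (f a).op).hom.toAlgebra
  haveI : ∀ a, Module.Flat (O.obj.obj (op E)) (O.obj.obj (op (Y a))) :=
    fun a => h.flat (f a) hE (hY a)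
  letI : ∀ a, Module (O.obj.obj (op E)) (M.val.obj (op (Y a))) :=
    fun a => Module.compHom _ (algebraMap (O.obj.obj (op E)) (O.obj.obj (op (Y a))))
  haveI : ∀ a, IsScalarTower (O.obj.obj (op E)) (O.obj.obj (op (Y a))) (M.val.obj (op (Y a))) :=
    fun a => ⟨fun x y z => by
      change (x • y) • z = algebraMap (O.obj.obj (op E)) (O.obj.obj (op (Y a))) x • (y • z)
      rw [Algebra.smul_def, mul_smul]⟩
  letI : ∀ a, Module (O.obj.obj (op E)) (Q.val.obj (op (Y a))) :=
    fun a => Module.compHom _ (algebraMap (O.obj.obj (op E)) (O.obj.obj (op (Y a))))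
  haveI : ∀ a, IsScalarTower (O.obj.obj (op E)) (O.obj.obj (op (Y a))) (Q.val.obj (op (Y a))) :=
    fun a => ⟨fun x y z => by
      change (x • y) • z = algebraMap (O.obj.obj (op E)) (O.obj.obj (op (Y a))) x • (y • z)
      rw [Algebra.smul_def, mul_smul]⟩
  let ρM : ∀ a, M.val.obj (op E) →ₗ[O.obj.obj (op E)] M.val.obj (op (Y a)) := fun a =>
    { toFun := res O.obj M.val (f a)
      map_add' := map_add _
      map_smul' := fun r m => res_smul O.obj M.val (f a) r m }
  let ρQ : ∀ a, Q.val.obj (op E) →ₗ[O.obj.obj (op E)] Q.val.obj (op (Y a)) := fun a =>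
    { toFun := res O.obj Q.val (f a)
      map_add' := map_add _
      map_smul' := fun r m => res_smul O.obj Q.val (f a) r m }
  have hρM : ∀ a, IsBaseChange (O.obj.obj (op (Y a))) (ρM a) := fun a =>
    isBaseChange_of_isBC (f a) (isBC_of_isQuasicoherent O h M (f a) hE (hY a)) rfl (ρM a)
      (fun m => rfl)
  have hρQ : ∀ a, IsBaseChange (O.obj.obj (op (Y a))) (ρQ a) := fun a =>
    isBaseChange_of_isBC (f a) (isBC_of_isQuasicoherent O h Q (f a) hE (hY a)) rfl (ρQ a)
      (fun m => rfl)
  let πE : M.val.obj (op E) →ₗ[O.obj.obj (op E)] Q.val.obj (op E) :=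
    { toFun := fun m => (π.val.app (op E)).hom m
      map_add' := fun x y => map_add (π.val.app (op E)).hom x y
      map_smul' := fun r m => map_smul (π.val.app (op E)).hom r m }
  have key : t ∈ LinearMap.range πE := by
    refine Groth.Agent.H13.WAFin_FGALG.mem_of_forall_mem_span_isBaseChange
      (fun a => O.obj.obj (op (Y a))) (h.surj E hE n Y f hY hcov)
      (fun a => Q.val.obj (op (Y a))) ρQ hρQ (LinearMap.range πE) t ?_
    intro a
    obtain ⟨r, hr⟩ := hloc (f a) (hf a)
    change res O.obj Q.val (f a) t ∈ _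
    have hr' : res O.obj Q.val (f a) t = (π.val.app (op (Y a))).hom r := hr.symm
    rw [hr']
    have hrtop : r ∈ Submodule.span (O.obj.obj (op (Y a))) (Set.range (ρM a)) := by
      rw [Groth.Agent.H13.WAFin_FGDESC.span_range_eq_top
        (fun a => O.obj.obj (op (Y a))) (fun a => M.val.obj (op (Y a))) ρM a (hρM a)]
      exact Submodule.mem_top
    refine Submodule.span_induction (p := fun r _ => (π.val.app (op (Y a))).hom r ∈
      Submodule.span (O.obj.obj (op (Y a)))
        (ρQ a '' (LinearMap.range πE : Set (Q.val.obj (op E)))))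
      ?_ ?_ ?_ ?_ hrtop
    · rintro _ ⟨m, rfl⟩
      refine Submodule.subset_span ⟨πE m, ⟨m, rfl⟩, ?_⟩
      exact (PresheafOfModules.naturality_apply π.val (f a).op m).symm
    · rw [map_zero]; exact Submodule.zero_mem _
    · intro x y _ _ hx hy
      rw [map_add]; exact Submodule.add_mem _ hx hy
    · intro b x _ hx
      rw [map_smul]; exact Submodule.smul_mem _ _ hx
  obtain ⟨m, hm⟩ := key
  exact ⟨m, hm⟩

end Main

end Groth.Agent.H32.WAFin
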