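import Groth.Agent.H32.QCBC.Main
import Groth.Agent.H32.QCBC.BCConv
import Groth.Agent.H13.WAFin_FGALG
import Groth.Agent.H13.WAFin_FGDESC

/-! helper32: sections of a quasi-coherent module of finite type over an affine object form a
finite module (abstract affine site; small étale site). -/

set_option autoImplicit false
universe u v₁ u₁ w
open CategoryTheory Opposite Limits

namespace Groth.Agent.H32.WAFin

open Groth.Agent.H32.QCBC

section Gen'
variable {C : Type u₁} [Category.{v₁} C] {J : GrothendieckTopology C} {R : Sheaf J RingCat.{u}}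
  [HasWeakSheafify J AddCommGrpCat.{u}] [J.WEqualsLocallyBijective AddCommGrpCat.{u}]
  (N : SheafOfModules.{u} R) (σ : N.GeneratingSections) (T : C)

theorem gen'σ ⦃X : C⦄ (v : X ⟶ T) (t : N.val.obj (op X)) :
    ∃ S ∈ J X, ∀ ⦃Y : C⦄ (f : Y ⟶ X), S f → ∃ c : σ.I →₀ R.obj.obj (op Y),
      N.val.map f.op t = c.sum fun i r => r • N.val.map (f ≫ v).op ((σ.s i).eval (op T)) := by
  obtain ⟨S, hS, h⟩ := Groth.Agent.H96.QCBC_GEN.exists_locally_finite_combination N σ.s X t
  refine ⟨S, hS, fun Y f hf => ?_⟩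
  obtain ⟨c, hc⟩ := h f hf
  refine ⟨c, hc.trans ?_⟩
  refine Finsupp.sum_congr (fun i _ => ?_)
  show c i • _ = c i • _
  rw [PresheafOfModules.sections_property]
  rfl

end Gen'

section Gen
variable {C : Type u₁} [Category.{v₁} C] {J : GrothendieckTopology C} (R : Sheaf J RingCat.{u})
  [∀ X, HasWeakSheafify (J.over X) AddCommGrpCat.{u}]
  [∀ X, (J.over X).WEqualsLocallyBijective AddCommGrpCat.{u}]
  (M : SheafOfModules.{u} R) (W : C) (σ : (M.over W).GeneratingSections)

/-- generating sections over `W`, as elements of `M(W)`. -/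
noncomputable def s0σ (i : σ.I) : M.val.obj (op W) := (σ.s i).eval (op (Over.mk (𝟙 W)))

theorem genσ ⦃V : C⦄ (v : V ⟶ W) (t : M.val.obj (op V)) :
    ∃ S ∈ J V, ∀ ⦃V' : C⦄ (f : V' ⟶ V), S f → ∃ c : σ.I →₀ R.obj.obj (op V'),
      M.val.map f.op t = c.sum fun i r => r • M.val.map (f ≫ v).op (s0σ R M W σ i) := by
  obtain ⟨S', hS', h⟩ := gen'σ (M.over W) σ (Over.mk (𝟙 W)) (X := Over.mk v)
    (Over.homMk (U := Over.mk v) (V := Over.mk (𝟙 W)) v (Category.comp_id v)) t
  refine ⟨Sieve.overEquiv _ S', (GrothendieckTopology.mem_over_iff _ _).1 hS', fun V' f hf => ?_⟩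
  exact h (Over.homMk f : Over.mk (f ≫ (Over.mk v).hom) ⟶ Over.mk v)
    ((Sieve.overEquiv_iff _ _).1 hf)

end Gen

section Main
variable {C : Type u₁} [Category.{v₁} C] {J : GrothendieckTopology C}
  (O : Sheaf J CommRingCat.{max v₁ u₁})
  [J.HasSheafCompose (forget₂ CommRingCat.{max v₁ u₁} RingCat.{max v₁ u₁})]
  [∀ X, HasWeakSheafify (J.over X) AddCommGrpCat.{max v₁ u₁}]
  [∀ X, (J.over X).WEqualsLocallyBijective AddCommGrpCat.{max v₁ u₁}]
  {Aff : C → Prop}

set_option maxHeartbeats 800000 in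
/-- over an affine `V ⟶ W`, the restrictions of generating sections of `M.over W` span `M(V)`. -/
theorem span_eq_top (h : AffSite J O.obj Aff)
    (M : SheafOfModules.{max v₁ u₁}
      ((sheafCompose J (forget₂ CommRingCat.{max v₁ u₁} RingCat.{max v₁ u₁})).obj O))
    [M.IsQuasicoherent] (W : C) (σ : (M.over W).GeneratingSections) {V : C} (v : V ⟶ W)
    (hV : Aff V) :
    Submodule.span (O.obj.obj (op V))
      (Set.range fun i => (res O.obj M.val v (s0σ _ M W σ i) : M.val.obj (op V))) = ⊤ := by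
  rw [eq_top_iff]
  intro t _
  obtain ⟨S, hS, hgen⟩ := genσ _ M W σ v t
  obtain ⟨n, Y, f, hY, hf, hcov⟩ := h.qc V hV S hS
  letI : ∀ a, Algebra (O.obj.obj (op V)) (O.obj.obj (op (Y a))) :=
    fun a => (O.obj.map (f a).op).hom.toAlgebra
  haveI : ∀ a, Module.Flat (O.obj.obj (op V)) (O.obj.obj (op (Y a))) :=
    fun a => h.flat (f a) hV (hY a)
  letI : ∀ a, Module (O.obj.obj (op V)) (M.val.obj (op (Y a))) :=
    fun a => Module.compHom _ (algebraMap (O.obj.obj (op V)) (O.obj.obj (op (Y a))))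
  haveI : ∀ a, IsScalarTower (O.obj.obj (op V)) (O.obj.obj (op (Y a))) (M.val.obj (op (Y a))) :=
    fun a => ⟨fun x y z => by
      change (x • y) • z = algebraMap (O.obj.obj (op V)) (O.obj.obj (op (Y a))) x • (y • z)
      rw [Algebra.smul_def, mul_smul]⟩
  let ρ : ∀ a, M.val.obj (op V) →ₗ[O.obj.obj (op V)] M.val.obj (op (Y a)) := fun a =>
    { toFun := res O.obj M.val (f a)
      map_add' := map_add _
      map_smul' := fun r m => res_smul O.obj M.val (f a) r m }
  have hρ : ∀ a, IsBaseChange (O.obj.obj (op (Y a))) (ρ a) := fun a =>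
    isBaseChange_of_isBC (f a) (isBC_of_isQuasicoherent O h M (f a) hV (hY a)) rfl (ρ a)
      (fun m => rfl)
  refine Groth.Agent.H13.WAFin_FGALG.mem_of_forall_mem_span_isBaseChange (fun a => O.obj.obj (op (Y a)))
    (h.surj V hV n Y f hY hcov) (fun a => M.val.obj (op (Y a))) ρ hρ _ t ?_
  intro a
  obtain ⟨c, hc⟩ := hgen (f a) (hf a)
  change res O.obj M.val (f a) t ∈ _
  have hc' : res O.obj M.val (f a) t =
      c.sum fun i (r : O.obj.obj (op (Y a))) =>
        r • res O.obj M.val (f a ≫ v) (s0σ _ M W σ i) := hc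
  rw [hc']
  refine Submodule.sum_mem _ (fun i _ => Submodule.smul_mem _ _ (Submodule.subset_span ?_))
  refine ⟨res O.obj M.val v (s0σ _ M W σ i), Submodule.subset_span ⟨i, rfl⟩, ?_⟩
  exact (res_comp O.obj M.val v (f a) (s0σ _ M W σ i)).symm

set_option maxHeartbeats 800000 in
/-- sections of a quasi-coherent module with finite local generators over an affine object form a
finite module. -/
theorem finite_sect (h : AffSite J O.obj Aff)
    (M : SheafOfModules.{max v₁ u₁}
      ((sheafCompose J (forget₂ CommRingCat.{max v₁ u₁} RingCat.{max v₁ u₁})).obj O))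
    [M.IsQuasicoherent] (σ : SheafOfModules.LocalGeneratorsData.{w} M) (hσ : σ.IsFiniteType)
    {E : C} (hE : Aff E) :
    Module.Finite (O.obj.obj (op E)) (M.val.obj (op E)) := by
  obtain ⟨n, Y, f, hY, hS, hcov⟩ := h.qc E hE _ (σ.coversTop E)
  letI : ∀ a, Algebra (O.obj.obj (op E)) (O.obj.obj (op (Y a))) :=
    fun a => (O.obj.map (f a).op).hom.toAlgebra
  haveI : ∀ a, Module.Flat (O.obj.obj (op E)) (O.obj.obj (op (Y a))) :=
    fun a => h.flat (f a) hE (hY a)
  letI : ∀ a, Module (O.obj.obj (op E)) (M.val.obj (op (Y a))) :=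
    fun a => Module.compHom _ (algebraMap (O.obj.obj (op E)) (O.obj.obj (op (Y a))))
  haveI : ∀ a, IsScalarTower (O.obj.obj (op E)) (O.obj.obj (op (Y a))) (M.val.obj (op (Y a))) :=
    fun a => ⟨fun x y z => by
      change (x • y) • z = algebraMap (O.obj.obj (op E)) (O.obj.obj (op (Y a))) x • (y • z)
      rw [Algebra.smul_def, mul_smul]⟩
  let ρ : ∀ a, M.val.obj (op E) →ₗ[O.obj.obj (op E)] M.val.obj (op (Y a)) := fun a =>
    { toFun := res O.obj M.val (f a)
      map_add' := map_add _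
      map_smul' := fun r m => res_smul O.obj M.val (f a) r m }
  have hρ : ∀ a, IsBaseChange (O.obj.obj (op (Y a))) (ρ a) := fun a =>
    isBaseChange_of_isBC (f a) (isBC_of_isQuasicoherent O h M (f a) hE (hY a)) rfl (ρ a)
      (fun m => rfl)
  refine Groth.Agent.H13.WAFin_FGDESC.finite_of_forall_finite_isBaseChange (fun a => O.obj.obj (op (Y a)))
    (h.surj E hE n Y f hY hcov) (fun a => M.val.obj (op (Y a))) ρ hρ ?_
  intro a
  obtain ⟨i, ⟨w⟩⟩ := hS a
  haveI : (σ.generators i).IsFiniteType := hσ.isFiniteType i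
  haveI : Finite (σ.generators i).I := inferInstance
  have hspan := span_eq_top O h M (σ.X i) (σ.generators i) w (hY a)
  exact ⟨⟨(Set.finite_range _).toFinset, by rw [Set.Finite.coe_toFinset]; exact hspan⟩⟩

end Main

end Groth.Agent.H32.WAFin
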