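import Groth.Agent.H32.QCBC.Main
import Groth.Agent.H32.WAFin.FG
import Groth.Agent.H32.QCBC.BCConv
import Groth.Agent.H13.WAFin_FGALG
import Groth.Agent.H13.WAFin_FGDESC

/-! helper32: sections of a quasi-coherent module of finite type over an affine object form a
finite module (abstract affine site; small étale site). -/

set_option autoImplicit false
universe u v₁ u₁ w
open CategoryTheory Opposite Limits

namespace Groth.Agent.H32.WAFin2

open Groth.Agent.H32.QCBC

open Groth.Agent.H32.WAFin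

section Main
variable {C : Type u₁} [Category.{v₁} C] {J : GrothendieckTopology C}
  (O : Sheaf J CommRingCat.{max v₁ u₁})
  [J.HasSheafCompose (forget₂ CommRingCat.{max v₁ u₁} RingCat.{max v₁ u₁})]
  [∀ X, HasWeakSheafify (J.over X) AddCommGrpCat.{max v₁ u₁}]
  [∀ X, (J.over X).WEqualsLocallyBijective AddCommGrpCat.{max v₁ u₁}]
  {Aff : C → Prop}

set_option maxHeartbeats 800000 in
/-- over an affine `V ⟶ W`, the restrictions of generating sections of `M.over W` span `M(V)`. -/
theorem span_eq_top (h : AffSite J O.obj Aff)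
    (M : SheafOfModules.{max v₁ u₁}
      ((sheafCompose J (forget₂ CommRingCat.{max v₁ u₁} RingCat.{max v₁ u₁})).obj O))
    (hBC : ∀ {E V : C} (g : V ⟶ E), Aff E → Aff V → IsBC O.obj M.val g)
    (W : C) (σ : (M.over W).GeneratingSections) {V : C} (v : V ⟶ W)
    (hV : Aff V) :
    Submodule.span (O.obj.obj (op V))
      (Set.range fun i => (res O.obj M.val v (s0σ _ M W σ i) : M.val.obj (op V))) = ⊤ := by
  rw [eq_top_iff]
  intro t _
  obtain ⟨S, hS, hgen⟩ := genσ _ M W σ v t
  obtain ⟨n, Y, f, hY, hf, hcov⟩ := h.qc V hV S hS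
  letI : ∀ a, Algebra (O.obj.obj (op V)) (O.obj.obj (op (Y a))) :=
    fun a => (O.obj.map (f a).op).hom.toAlgebra
  haveI : ∀ a, Module.Flat (O.obj.obj (op V)) (O.obj.obj (op (Y a))) :=
    fun a => h.flat (f a) hV (hY a)
  letI : ∀ a, Module (O.obj.obj (op V)) (M.val.obj (op (Y a))) :=
    fun a => Module.compHom _ (algebraMap (O.obj.obj (op V)) (O.obj.obj (op (Y a))))
  haveI : ∀ a, IsScalarTower (O.obj.obj (op V)) (O.obj.obj (op (Y a))) (M.val.obj (op (Y a))) :=
    fun a => ⟨fun x y z => by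
      change (x • y) • z = algebraMap (O.obj.obj (op V)) (O.obj.obj (op (Y a))) x • (y • z)
      rw [Algebra.smul_def, mul_smul]⟩
  let ρ : ∀ a, M.val.obj (op V) →ₗ[O.obj.obj (op V)] M.val.obj (op (Y a)) := fun a =>
    { toFun := res O.obj M.val (f a)
      map_add' := map_add _
      map_smul' := fun r m => res_smul O.obj M.val (f a) r m }
  have hρ : ∀ a, IsBaseChange (O.obj.obj (op (Y a))) (ρ a) := fun a =>
    isBaseChange_of_isBC (f a) (hBC (f a) hV (hY a)) rfl (ρ a)
      (fun m => rfl)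
  refine Groth.Agent.H13.WAFin_FGALG.mem_of_forall_mem_span_isBaseChange (fun a => O.obj.obj (op (Y a)))
    (h.surj V hV n Y f hY hcov) (fun a => M.val.obj (op (Y a))) ρ hρ _ t ?_
  intro a
  obtain ⟨c, hc⟩ := hgen (f a) (hf a)
  change res O.obj M.val (f a) t ∈ _
  have hc' : res O.obj M.val (f a) t =
      c.sum fun i (r : O.obj.obj (op (Y a))) =>
        r • res O.obj M.val (f a ≫ v) (s0σ _ M W σ i) := hc
  rw [hc']
  refine Submodule.sum_mem _ (fun i _ => Submodule.smul_mem _ _ (Submodule.subset_span ?_))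
  refine ⟨res O.obj M.val v (s0σ _ M W σ i), Submodule.subset_span ⟨i, rfl⟩, ?_⟩
  exact (res_comp O.obj M.val v (f a) (s0σ _ M W σ i)).symm

set_option maxHeartbeats 800000 in
/-- sections of a quasi-coherent module with finite local generators over an affine object form a
finite module. -/
theorem finite_sect (h : AffSite J O.obj Aff)
    (M : SheafOfModules.{max v₁ u₁}
      ((sheafCompose J (forget₂ CommRingCat.{max v₁ u₁} RingCat.{max v₁ u₁})).obj O))
    (hBC : ∀ {E V : C} (g : V ⟶ E), Aff E → Aff V → IsBC O.obj M.val g)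
    (σ : SheafOfModules.LocalGeneratorsData.{w} M) (hσ : σ.IsFiniteType)
    {E : C} (hE : Aff E) :
    Module.Finite (O.obj.obj (op E)) (M.val.obj (op E)) := by
  obtain ⟨n, Y, f, hY, hS, hcov⟩ := h.qc E hE _ (σ.coversTop E)
  letI : ∀ a, Algebra (O.obj.obj (op E)) (O.obj.obj (op (Y a))) :=
    fun a => (O.obj.map (f a).op).hom.toAlgebra
  haveI : ∀ a, Module.Flat (O.obj.obj (op E)) (O.obj.obj (op (Y a))) :=
    fun a => h.flat (f a) hE (hY a)
  letI : ∀ a, Module (O.obj.obj (op E)) (M.val.obj (op (Y a))) :=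
    fun a => Module.compHom _ (algebraMap (O.obj.obj (op E)) (O.obj.obj (op (Y a))))
  haveI : ∀ a, IsScalarTower (O.obj.obj (op E)) (O.obj.obj (op (Y a))) (M.val.obj (op (Y a))) :=
    fun a => ⟨fun x y z => by
      change (x • y) • z = algebraMap (O.obj.obj (op E)) (O.obj.obj (op (Y a))) x • (y • z)
      rw [Algebra.smul_def, mul_smul]⟩
  let ρ : ∀ a, M.val.obj (op E) →ₗ[O.obj.obj (op E)] M.val.obj (op (Y a)) := fun a =>
    { toFun := res O.obj M.val (f a)
      map_add' := map_add _
      map_smul' := fun r m => res_smul O.obj M.val (f a) r m }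
  have hρ : ∀ a, IsBaseChange (O.obj.obj (op (Y a))) (ρ a) := fun a =>
    isBaseChange_of_isBC (f a) (hBC (f a) hE (hY a)) rfl (ρ a)
      (fun m => rfl)
  refine Groth.Agent.H13.WAFin_FGDESC.finite_of_forall_finite_isBaseChange (fun a => O.obj.obj (op (Y a)))
    (h.surj E hE n Y f hY hcov) (fun a => M.val.obj (op (Y a))) ρ hρ ?_
  intro a
  obtain ⟨i, ⟨w⟩⟩ := hS a
  haveI : (σ.generators i).IsFiniteType := hσ.isFiniteType i
  haveI : Finite (σ.generators i).I := inferInstance
  have hspan := span_eq_top O h M hBC (σ.X i) (σ.generators i) w (hY a)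
  exact ⟨⟨(Set.finite_range _).toFinset, by rw [Set.Finite.coe_toFinset]; exact hspan⟩⟩

end Main

end Groth.Agent.H32.WAFin2
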